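import Cfsg.Agent.H734.KB.Crit

/-!
# S4822, task D5: a lower bound for `l(B₀)`, cyclic Sylow subgroups
-/

set_option autoImplicit false

open Cfsg Subgroup

namespace Cfsg.Agent.H973.KB

universe u

variable {p : ℕ} [Fact p.Prime] {M : Ideal AlgInt}

theorem conj_pow_pow {Q : Type*} [Group Q] {n y : Q} {j : ℕ} (h : n * y * n⁻¹ = y ^ j) (i : ℕ) :
    n ^ i * y * (n ^ i)⁻¹ = y ^ j ^ i := by
  induction i with
  | zero => simp
  | succ i ih =>
    have h1 : n ^ (i + 1) * y * (n ^ (i + 1))⁻¹ = n * (n ^ i * y * (n ^ i)⁻¹) * n⁻¹ := by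
      rw [pow_succ']
      group
    rw [h1, ih]
    have h2 : n * y ^ j ^ i * n⁻¹ = (n * y * n⁻¹) ^ j ^ i := (conj_pow).symm
    rw [h2, h, ← pow_mul, pow_succ']

/-- D5: cyclic Sylow subgroups -/
theorem rank_cyclic {Q : Type u} [Group Q] [Finite Q] (hM : IsPModular p M) (P : Sylow p Q)
    (hP : IsCyclic (P : Subgroup Q)) (y c : Q) (hy : y ≠ 1) (k : ℕ) (hyk : orderOf y = p ^ k) (j : ℕ)
    (hc : c * y * c⁻¹ = y ^ j) : orderOf (j : ZMod p) ≤ blockRank p (principalBlock M Q) := by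
  have hp : p.Prime := Fact.out
  have hk : k ≠ 0 := by
    rintro rfl
    rw [pow_zero, orderOf_eq_one_iff] at hyk
    exact hy hyk
  have hpy : p ∣ orderOf y := by
    rw [hyk]
    exact dvd_pow_self p hk
  have hd : p ∣ Nat.card Q := hpy.trans (orderOf_dvd_natCard y)
  rw [Cfsg.Agent.H734.KB.rank_cyclic hM P hP hd]
  -- move `y` into `P`
  have hZ : IsPGroup p (zpowers y) := IsPGroup.of_card (n := k) (by rw [Nat.card_zpowers, hyk])
  obtain ⟨R, hR⟩ := hZ.exists_le_sylow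
  obtain ⟨a, ha⟩ := MulAction.exists_smul_eq Q R P
  set y' := a * y * a⁻¹ with hy'
  have hyP : y' ∈ (P : Subgroup Q) := by
    rw [← ha]
    have h1 : y ∈ (R : Subgroup Q) := hR (mem_zpowers y)
    exact ⟨y, h1, rfl⟩
  have hc' : (a * c * a⁻¹) * y' * (a * c * a⁻¹)⁻¹ = y' ^ j := by
    have h1 : y' ^ j = a * y ^ j * a⁻¹ := conj_pow
    rw [h1, ← hc, hy']
    group
  have : IsMulCommutative (P : Subgroup Q) := ⟨⟨IsCyclic.commGroup.mul_comm⟩⟩
  have h4 : ((a * c * a⁻¹)⁻¹)⁻¹ * y' * (a * c * a⁻¹)⁻¹ = y' ^ j := by rw [inv_inv, hc']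
  obtain ⟨n, hn, hn2⟩ := P.conj_eq_normalizer_conj_of_mem y' (a * c * a⁻¹)⁻¹ hyP
    (by rw [h4]; exact pow_mem hyP j)
  rw [h4] at hn2
  have h5 : n⁻¹ * y' * (n⁻¹)⁻¹ = y' ^ j := by rw [inv_inv, hn2]
  have hn' : n⁻¹ ∈ normalizer ((P : Subgroup Q) : Set Q) := inv_mem hn
  set N := normalizer ((P : Subgroup Q) : Set Q) with hN
  set C := centralizer ((P : Subgroup Q) : Set Q) with hC
  set e := C.relIndex N with he
  have hnorm : (C.subgroupOf N).Normal := by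
    refine ⟨fun x hx g => ?_⟩
    rw [mem_subgroupOf] at hx ⊢
    rw [hC, mem_centralizer_iff] at hx ⊢
    intro z hz
    have h6 : (g : Q)⁻¹ * z * (g : Q) ∈ ((P : Subgroup Q) : Set Q) := by
      have := (mem_normalizer_iff.1 (inv_mem g.2) z).1 hz
      rwa [inv_inv] at this
    have h7 := hx _ h6
    show z * ((g : Q) * x * (g : Q)⁻¹) = (g : Q) * x * (g : Q)⁻¹ * z
    calc z * ((g : Q) * x * (g : Q)⁻¹) = (g : Q) * (((g : Q)⁻¹ * z * g) * x) * (g : Q)⁻¹ := by group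
      _ = (g : Q) * (x * ((g : Q)⁻¹ * z * g)) * (g : Q)⁻¹ := by rw [h7]
      _ = (g : Q) * x * (g : Q)⁻¹ * z := by group
  have hne : (n⁻¹) ^ e ∈ C := by
    have h6 := Subgroup.pow_index_mem (C.subgroupOf N) ⟨n⁻¹, hn'⟩
    exact mem_subgroupOf.1 h6
  have h8 : y' ^ j ^ e = y' := by
    rw [← conj_pow_pow h5 e]
    have h9 := (mem_centralizer_iff.1 hne) y' hyP
    rw [← h9, mul_inv_cancel_right]
  have ho : orderOf y' = p ^ k := by
    rw [← hyk, hy']
    exact (MulAut.conj a).orderOf_eq y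
  have h10 : j ^ e ≡ 1 [MOD p] := by
    have h11 : y' ^ j ^ e = y' ^ 1 := by rw [h8, pow_one]
    rw [pow_eq_pow_iff_modEq, ho] at h11
    exact h11.of_dvd (dvd_pow_self p hk)
  have h12 : (j : ZMod p) ^ e = 1 := by
    have := (ZMod.natCast_eq_natCast_iff _ _ p).2 h10
    push_cast at this
    exact this
  have he0 : 0 < e := Nat.pos_of_ne_zero (by
    rw [he, relIndex]
    exact index_ne_zero_of_finite)
  exact Nat.le_of_dvd he0 (orderOf_dvd_of_pow_eq_one h12)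

end Cfsg.Agent.H973.KB
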